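import Mathlib

/-!
# Locally Noetherian schemes over fields and finitely generated field extensions
-/

set_option autoImplicit false
set_option backward.isDefEq.respectTransparency false

universe u

open AlgebraicGeometry CategoryTheory Limits TensorProduct

namespace Groth.Agent.FlatMorNoethFib

theorem isNoetherianRing_tensor_iff (k K A : Type u) [Field k] [Field K] [CommRing A] [Algebra k K]
    [Algebra k A] [Algebra.EssFiniteType k K] :
    IsNoetherianRing (A ⊗[k] K) ↔ IsNoetherianRing A := by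
  refine ⟨fun h => ?_, fun h => Algebra.EssFiniteType.isNoetherianRing A (A ⊗[k] K)⟩
  rw [isNoetherianRing_iff]
  have : IsNoetherian (A ⊗[k] K) ((A ⊗[k] K) ⊗[A] A) :=
    isNoetherian_of_linearEquiv
      (AlgebraTensorModule.rid A (A ⊗[k] K) (A ⊗[k] K)).symm
  exact Submodule.IsNoetherian.of_isNoetherian_tensorProduct_of_faithfullyFlat
    (R := A) (M := A) (A := A ⊗[k] K) this

theorem isNoetherianRing_Γ (R : CommRingCat.{u}) : IsNoetherianRing Γ(Spec R, ⊤) ↔ IsNoetherianRing R :=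
  ⟨fun _ => isNoetherianRing_of_ringEquiv _ (Scheme.ΓSpecIso R).commRingCatIsoToRingEquiv,
    fun _ => isNoetherianRing_of_ringEquiv _ (Scheme.ΓSpecIso R).symm.commRingCatIsoToRingEquiv⟩

theorem isLocallyNoetherian_iff {k K : CommRingCat.{u}} (hk : IsField k) (hK : IsField K) (φ : k ⟶ K)
    (hφ : φ.hom.EssFiniteType) {Z W : Scheme.{u}} (q : W ⟶ Z) (p' : W ⟶ Spec K) (p : Z ⟶ Spec k)
    (h : IsPullback q p' p (Spec.map φ)) : IsLocallyNoetherian W ↔ IsLocallyNoetherian Z := by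
  let := hk.toField
  let := hK.toField
  algebraize [φ.hom]
  let 𝒰 := Z.affineCover
  let e : ∀ i : 𝒰.I₀, pullback q (𝒰.f i) ≅ pullback (𝒰.f i ≫ p) (Spec.map φ) := fun i =>
    ((IsPullback.of_hasPullback q (𝒰.f i)).paste_horiz h.flip).flip.isoPullback
  have hp : ∀ i, ∃ ψ : k ⟶ Γ(𝒰.X i, ⊤), (𝒰.f i ≫ p) = (𝒰.X i).isoSpec.hom ≫ Spec.map ψ := fun i =>
    ⟨Spec.preimage ((𝒰.X i).isoSpec.inv ≫ 𝒰.f i ≫ p), by simp⟩
  choose ψ hψ using hp
  have key : ∀ i, IsNoetherianRing Γ((𝒰.pullback₁ q).X i, ⊤) ↔ IsNoetherianRing Γ(𝒰.X i, ⊤) := by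
    intro i
    algebraize [(ψ i).hom]
    let e₂ : pullback (𝒰.f i ≫ p) (Spec.map φ) ≅ Spec (CommRingCat.of (Γ(𝒰.X i, ⊤) ⊗[k] K)) :=
      pullback.congrHom (hψ i) rfl ≪≫
        asIso (pullback.map _ _ (Spec.map (ψ i)) (Spec.map φ) (𝒰.X i).isoSpec.hom (𝟙 _) (𝟙 _) (by simp)
          (by simp)) ≪≫ pullbackSpecIso k Γ(𝒰.X i, ⊤) K
    let e₃ := (Scheme.Γ.mapIso (e i ≪≫ e₂).op).commRingCatIsoToRingEquiv
    have : IsNoetherianRing Γ((𝒰.pullback₁ q).X i, ⊤) ↔
        IsNoetherianRing Γ(Spec (CommRingCat.of (Γ(𝒰.X i, ⊤) ⊗[k] K)), ⊤) :=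
      ⟨fun h => @isNoetherianRing_of_ringEquiv _ _ _ _ e₃.symm h, fun h => @isNoetherianRing_of_ringEquiv _ _ _ _ e₃ h⟩
    rw [this, isNoetherianRing_Γ]
    exact isNoetherianRing_tensor_iff k K _
  have : ∀ i, IsAffine ((𝒰.pullback₁ q).X i) := fun i => by
    have : IsAffine (pullback (𝒰.f i ≫ p) (Spec.map φ)) := inferInstance
    exact IsAffine.of_isIso (e i).hom
  rw [isLocallyNoetherian_iff_of_affine_openCover (𝒰.pullback₁ q),
    isLocallyNoetherian_iff_of_affine_openCover 𝒰]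
  exact forall_congr' key

theorem essFiniteType_residueFieldMap {X Y : Scheme.{u}} (g : Y ⟶ X) [LocallyOfFiniteType g] (y : Y) :
    (g.residueFieldMap y).hom.EssFiniteType := by
  have h1 : ((g.stalkMap y) ≫ Y.residue y).hom.EssFiniteType := by
    refine RingHom.EssFiniteType.comp (LocallyOfFiniteType.stalkMap g y) ?_
    exact (RingHom.FiniteType.of_surjective _ (Y.residue_surjective y)).essFiniteType
  rw [← Scheme.residue_residueFieldMap] at h1
  exact RingHom.EssFiniteType.of_comp (X.residue (g y)).hom h1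

end Groth.Agent.FlatMorNoethFib
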